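import Mathlib
import Groth.Prelude.Def_BlowUp2
import Groth.Prelude.Def_Curv2
import Groth.Prelude.Def_FEt
import Groth.Agent.ASp.CutOut
import Groth.Agent.BlowExistsLib.Glue
import Groth.Agent.S1680

/-! Admissible blow-ups descend from the completion of a Noetherian local ring. -/

set_option autoImplicit false
set_option backward.isDefEq.respectTransparency false

universe u

open CategoryTheory CategoryTheory.Limits AlgebraicGeometry IsLocalRing

namespace Groth.Agent.CplBlowUp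

variable {A : Type u} [CommRing A]

/-- Ideals of the completion containing a power of the ideal come from the ring. -/
theorem map_comap_eq (m : Ideal A) (hm : m.FG) (N : ℕ) (J : Ideal (AdicCompletion m A))
    (hN : (m ^ N).map (algebraMap A (AdicCompletion m A)) ≤ J) :
    (J.comap (algebraMap A (AdicCompletion m A))).map (algebraMap A (AdicCompletion m A)) = J := by
  refine le_antisymm Ideal.map_comap_le fun x hx => ?_
  obtain ⟨a, ha⟩ := Submodule.Quotient.mk_surjective _ (AdicCompletion.eval m A N x)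
  have h1 : x - algebraMap A (AdicCompletion m A) a ∈ (m ^ N).map (algebraMap A (AdicCompletion m A)) := by
    have h2 : x - algebraMap A (AdicCompletion m A) a ∈ (m ^ N • ⊤ : Submodule A (AdicCompletion m A)) := by
      rw [AdicCompletion.pow_smul_top_eq_ker_eval hm, LinearMap.mem_ker, map_sub, sub_eq_zero, ← ha]
      rfl
    rwa [Ideal.smul_top_eq_map] at h2
  have h3 : algebraMap A (AdicCompletion m A) a ∈ J := by
    have := J.sub_mem hx (hN h1)
    simpa using this
  have h4 : x - algebraMap A (AdicCompletion m A) a ∈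
      (J.comap (algebraMap A (AdicCompletion m A))).map (algebraMap A (AdicCompletion m A)) :=
    Ideal.map_mono (Ideal.map_le_iff_le_comap.mp hN) h1
  have h5 := Ideal.mem_map_of_mem (algebraMap A (AdicCompletion m A))
    (show a ∈ J.comap (algebraMap A (AdicCompletion m A)) from h3)
  simpa using add_mem h4 h5

theorem mem_support_iff {R : CommRingCat.{u}} (a : Ideal R) (p : PrimeSpectrum R) :
    p ∈ ((Scheme.IdealSheafData.ofIdealTop (X := Spec R) (a.map (Scheme.ΓSpecIso R).inv.hom)).support : Set (Spec R)) ↔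
      a ≤ p.asIdeal := by
  rw [Scheme.IdealSheafData.coe_support_ofIdealTop, Spec_zeroLocus, ← Ideal.coe_comap,
    PrimeSpectrum.mem_zeroLocus, SetLike.coe_subset_coe,
    Ideal.comap_map_of_bijective _ (ConcreteCategory.bijective_of_isIso (Scheme.ΓSpecIso R).inv)]

theorem exists_ideal {R : CommRingCat.{u}} (J : (Spec R).IdealSheafData) :
    ∃ a : Ideal R, J = Scheme.IdealSheafData.ofIdealTop (X := Spec R) (a.map (Scheme.ΓSpecIso R).inv.hom) := by
  refine ⟨(J.ideal ⟨⊤, isAffineOpen_top _⟩).comap (Scheme.ΓSpecIso R).inv.hom, ?_⟩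
  rw [Ideal.map_comap_of_surjective _
    (ConcreteCategory.bijective_of_isIso (Scheme.ΓSpecIso R).inv).surjective]
  exact ASp.eq_ofIdealTop_top J

theorem comap_spec {R S : CommRingCat.{u}} (φ : R ⟶ S) (a : Ideal R) :
    (Scheme.IdealSheafData.ofIdealTop (X := Spec R) (a.map (Scheme.ΓSpecIso R).inv.hom)).comap (Spec.map φ) =
      Scheme.IdealSheafData.ofIdealTop (X := Spec S) ((a.map φ.hom).map (Scheme.ΓSpecIso S).inv.hom) := by
  rw [ASp.comap_ofIdealTop, Ideal.map_map, Ideal.map_map, ← CommRingCat.hom_comp, ← CommRingCat.hom_comp,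
    Scheme.ΓSpecIso_inv_naturality]

/-- Two blow-ups in the same ideal are isomorphic over the base. -/
theorem exists_iso {X X₁ X₂ : Scheme.{u}} {b₁ : X₁ ⟶ X} {b₂ : X₂ ⟶ X} {I : X.IdealSheafData}
    (h₁ : BlowUp.IsBlowUp b₁ I) (h₂ : BlowUp.IsBlowUp b₂ I) :
    ∃ e : X₁ ≅ X₂, e.hom ≫ b₂ = b₁ := by
  obtain ⟨f, hf, -⟩ := h₂.2 X₁ b₁ h₁.1
  obtain ⟨g, hg, -⟩ := h₁.2 X₂ b₂ h₂.1
  obtain ⟨_, -, hu₁⟩ := h₁.2 X₁ b₁ h₁.1
  obtain ⟨_, -, hu₂⟩ := h₂.2 X₂ b₂ h₂.1
  refine ⟨⟨f, g, ?_, ?_⟩, hf⟩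
  · exact (hu₁ (f ≫ g) (by simp only [Category.assoc, hg, hf])).trans (hu₁ (𝟙 X₁) (Category.id_comp b₁)).symm
  · exact (hu₂ (g ≫ f) (by simp only [Category.assoc, hf, hg])).trans (hu₂ (𝟙 X₂) (Category.id_comp b₂)).symm

theorem exists_descent (A : Type u) [CommRing A] [IsLocalRing A] [IsNoetherianRing A]
    (Y : Scheme.{u}) (c : Y ⟶ Spec (CommRingCat.of (Curv2.cpl A)))
    (J : (Spec (CommRingCat.of (Curv2.cpl A))).IdealSheafData)
    (hJ : BlowUp.IsAdmissibleFor (FEt.puncturedSpec (Curv2.cpl A)) J) (hc : BlowUp.IsBlowUp c J) :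
    ∃ (I : (Spec (CommRingCat.of A)).IdealSheafData) (X : Scheme.{u}) (b : X ⟶ Spec (CommRingCat.of A)),
      BlowUp.IsAdmissibleFor (FEt.puncturedSpec A) I ∧ BlowUp.IsBlowUp b I ∧
      ∃ e : Y ≅ Curv2.bcCpl A b, e.hom ≫ Curv2.bcCplSnd A b = c := by
  obtain ⟨a, rfl⟩ := exists_ideal J
  let φ := algebraMap A (Curv2.cpl A)
  haveI : Module.Flat A (Curv2.cpl A) := AdicCompletion.flat_of_isNoetherian _
  have hfg : (maximalIdeal A).FG := IsNoetherian.noetherian _
  have hmle : (maximalIdeal A).map φ ≤ maximalIdeal (Curv2.cpl A) := by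
    rw [Ideal.map_le_iff_le_comap]
    intro x hx
    exact fun hu => hx (isUnit_of_map_unit φ x hu)
  have hrad : (maximalIdeal A).map φ ≤ a.radical := by
    rw [Ideal.radical_eq_sInf]
    refine le_sInf fun P hP => hmle.trans (le_of_eq ?_)
    haveI := hP.2
    by_contra hne
    refine Set.disjoint_left.mp hJ.2 ((mem_support_iff a ⟨P, hP.2⟩).mpr hP.1) ?_
    show (⟨P, hP.2⟩ : PrimeSpectrum (Curv2.cpl A)) ≠ closedPoint _
    exact fun h => hne (congrArg PrimeSpectrum.asIdeal h).symm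
  obtain ⟨N, hN⟩ := Ideal.exists_pow_le_of_le_radical_of_fg hrad (hfg.map φ)
  rw [← Ideal.map_pow] at hN
  let a₀ : Ideal A := a.comap φ
  have ha : a₀.map φ = a := map_comap_eq (maximalIdeal A) hfg N a hN
  let I : (Spec (CommRingCat.of A)).IdealSheafData :=
    Scheme.IdealSheafData.ofIdealTop (a₀.map (Scheme.ΓSpecIso (CommRingCat.of A)).inv.hom)
  have hI : I.comap (Spec.map (CommRingCat.ofHom φ)) =
      Scheme.IdealSheafData.ofIdealTop (a.map (Scheme.ΓSpecIso (CommRingCat.of (Curv2.cpl A))).inv.hom) := by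
    rw [comap_spec]
    exact congrArg (fun t => Scheme.IdealSheafData.ofIdealTop
      (Ideal.map (Scheme.ΓSpecIso (CommRingCat.of (Curv2.cpl A))).inv.hom t)) ha
  obtain ⟨X, b, hb⟩ := BlowExistsLib.exists_isBlowUp (𝓘 := I)
  have hadm : BlowUp.IsAdmissibleFor (FEt.puncturedSpec A) I := by
    refine ⟨fun U => ?_, Set.disjoint_left.mpr fun (p : PrimeSpectrum A) hp hpU => hpU ?_⟩
    · rw [Scheme.IdealSheafData.ofIdealTop_ideal]
      exact Ideal.FG.map (Ideal.FG.map (IsNoetherian.noetherian a₀) _) _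
    · have h1 : maximalIdeal A ^ N ≤ p.asIdeal :=
        (Ideal.map_le_iff_le_comap.mp hN).trans ((mem_support_iff (R := CommRingCat.of A) a₀ p).mp hp)
      exact PrimeSpectrum.ext ((maximalIdeal.isMaximal A).eq_of_le p.2.ne_top (p.2.le_of_pow_le h1)).symm
  haveI : Flat (Spec.map (CommRingCat.ofHom φ)) := by
    rw [HasRingHomProperty.Spec_iff (P := @Flat), CommRingCat.hom_ofHom, RingHom.flat_algebraMap_iff]
    infer_instance
  have hbc := Groth.Agent.S1680.result (Spec.map (CommRingCat.ofHom φ)) I b hb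
  rw [hI] at hbc
  obtain ⟨e, he⟩ := exists_iso hc hbc
  refine ⟨I, X, b, hadm, hb, e ≪≫ pullbackSymmetry _ _, ?_⟩
  rw [Iso.trans_hom, Category.assoc, Curv2.bcCplSnd, pullbackSymmetry_hom_comp_snd]
  exact he

end Groth.Agent.CplBlowUp
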